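import Cfsg.Agent.KnownB.SpecThree.Upper
import Mathlib.RingTheory.IntegralDomain
import Mathlib.FieldTheory.Finite.Extension
import Mathlib.Tactic.LinearCombination

/-! The element orders of `PSL₃(q)`: witnesses. -/

set_option autoImplicit false

namespace Cfsg.Agent.KnownB.SpecThree

open Matrix

variable {F : Type*} [Field F] [Fintype F]

local notation "q" => Fintype.card F
local notation "d" => Nat.gcd 3 (Fintype.card F - 1)

theorem mk_pow_eq_one {X : SpecialLinearGroup (Fin 3) F} {k : ℕ}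
    (h : (QuotientGroup.mk X : ProjectiveSpecialLinearGroup (Fin 3) F) ^ k = 1) :
    ∃ c : F, c ^ 3 = 1 ∧ X.1 ^ k = c • 1 := by
  rw [← QuotientGroup.mk_pow, QuotientGroup.eq_one_iff, SpecialLinearGroup.mem_center_iff] at h
  obtain ⟨c, hc, e⟩ := h
  refine ⟨c, by simpa using hc, ?_⟩
  rw [← SpecialLinearGroup.coe_pow, ← e, scalar_apply, smul_one_eq_diagonal]

/-- If `k` kills up to a cube root of unity of `F`, then `M / d ∣ k`. -/
theorem div_gcd_dvd {G : Type*} [Field G] [Algebra F G] {z : G} {k M : ℕ} (hM : orderOf z = M)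
    (hd : d ∣ M) {c : F} (hc : c ^ 3 = 1) (hz : z ^ k = algebraMap F G c) : M / d ∣ k := by
  have hc0 : c ≠ 0 := fun h => by simp [h] at hc
  have h1 : M ∣ k * 3 := hM ▸ orderOf_dvd_of_pow_eq_one (by rw [pow_mul, hz, ← map_pow, hc, map_one])
  have h2 : M ∣ k * (q - 1) := hM ▸ orderOf_dvd_of_pow_eq_one (by
    rw [pow_mul, hz, ← map_pow, FiniteField.pow_card_sub_one_eq_one c hc0, map_one])
  have h3 : M ∣ k * d := by rw [← Nat.gcd_mul_left]; exact Nat.dvd_gcd h1 h2
  rw [Nat.div_dvd_iff_dvd_mul hd (Nat.gcd_pos_of_pos_left _ (by norm_num)), mul_comm]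
  exact h3

/-- An extension field of degree `e` with an element of maximal order. -/
theorem exists_generator (p : ℕ) [Fact p.Prime] [CharP F p] (e : ℕ) (he : 0 < e) :
    haveI : NeZero e := ⟨he.ne'⟩
    ∃ w : FiniteField.Extension F p e, orderOf w = q ^ e - 1 := by
  haveI : NeZero e := ⟨he.ne'⟩
  haveI : Finite (FiniteField.Extension F p e) := inferInstance
  obtain ⟨g, hg⟩ := IsCyclic.exists_generator (α := (FiniteField.Extension F p e)ˣ)
  refine ⟨g, ?_⟩
  rw [orderOf_units, orderOf_eq_card_of_forall_mem_zpowers hg, Nat.card_units,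
    Module.natCard_eq_pow_finrank (K := F), FiniteField.finrank_extension, Nat.card_eq_fintype_card]

variable (p : ℕ) [Fact p.Prime] [CharP F p]

include p in
theorem exists_singer : ∃ g : ProjectiveSpecialLinearGroup (Fin 3) F,
    (q ^ 2 + q + 1) / d ∣ orderOf g := by
  have hq : 2 ≤ q := Fintype.one_lt_card
  haveI : NeZero (3 : ℕ) := ⟨by norm_num⟩
  obtain ⟨w, hw⟩ := exists_generator (F := F) p 3 (by norm_num)
  let b : Module.Basis (Fin 3) F (FiniteField.Extension F p 3) := Module.finBasisOfFinrankEq F (FiniteField.Extension F p 3) (FiniteField.finrank_extension ..)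
  have h31 : q ^ 3 - 1 = (q ^ 2 + q + 1) * (q - 1) := by
    obtain ⟨t, ht⟩ : ∃ t, q = t + 1 := ⟨q - 1, by omega⟩
    rw [ht, show (t + 1) ^ 3 = ((t + 1) ^ 2 + (t + 1) + 1) * t + 1 by ring]
    simp
  set z := w ^ (q - 1) with hz
  have hzo : orderOf z = q ^ 2 + q + 1 := by
    rw [hz, orderOf_pow_of_dvd (by omega) (by rw [hw, h31]; exact dvd_mul_left _ _), hw, h31,
      Nat.mul_div_cancel _ (by omega)]
  have hdet : (Algebra.leftMulMatrix b z).det = 1 := by
    rw [← Algebra.norm_eq_matrix_det b, hz, map_pow, FiniteField.pow_card_sub_one_eq_one]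
    intro h
    have := congrArg (algebraMap F (FiniteField.Extension F p 3)) h
    rw [map_zero, FiniteField.algebraMap_norm_eq_pow] at this
    have hw0 : w = 0 := eq_zero_of_pow_eq_zero this
    rw [hw0, orderOf_zero] at hw
    have := Nat.one_lt_pow (show 3 ≠ 0 by norm_num) (show 1 < Fintype.card F by omega); omega
  refine ⟨QuotientGroup.mk ⟨_, hdet⟩, ?_⟩
  obtain ⟨c, hc, e⟩ := mk_pow_eq_one (pow_orderOf_eq_one
    (QuotientGroup.mk (⟨_, hdet⟩ : SpecialLinearGroup (Fin 3) F) : ProjectiveSpecialLinearGroup (Fin 3) F))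
  refine div_gcd_dvd (z := z) hzo ?_ hc ?_
  · rw [show q ^ 2 + q + 1 = (q - 1) * (q + 2) + 3 by
      obtain ⟨t, ht⟩ : ∃ t, q = t + 1 := ⟨q - 1, by omega⟩
      rw [ht]; simp; ring]
    exact dvd_add ((Nat.gcd_dvd_right _ _).mul_right _) (Nat.gcd_dvd_left _ _)
  · refine Algebra.leftMulMatrix_injective b ?_
    rw [map_pow, AlgHom.commutes, Algebra.algebraMap_eq_smul_one]
    exact e

/-- A block diagonal matrix of type `(2, 1)`. -/
def blk (A : Matrix (Fin 2) (Fin 2) F) (a : F) : Matrix (Fin 3) (Fin 3) F :=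
  Matrix.reindex finSumFinEquiv finSumFinEquiv (Matrix.fromBlocks A 0 0 (a • (1 : Matrix (Fin 1) (Fin 1) F)))

theorem blk_det (A : Matrix (Fin 2) (Fin 2) F) (a : F) : (blk A a).det = A.det * a := by
  simp [blk]

theorem blk_pow (A : Matrix (Fin 2) (Fin 2) F) (a : F) (k : ℕ) : blk A a ^ k = blk (A ^ k) (a ^ k) := by
  rw [blk, blk, ← Matrix.reindexAlgEquiv_apply F F, ← Matrix.reindexAlgEquiv_apply F F, ← map_pow,
    Matrix.fromBlocks_diagonal_pow, smul_pow, one_pow]

theorem blk_eq_scalar {A : Matrix (Fin 2) (Fin 2) F} {a c : F} (h : blk A a = c • 1) :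
    A = c • 1 ∧ a = c := by
  have h' : Matrix.fromBlocks A 0 0 (a • (1 : Matrix (Fin 1) (Fin 1) F)) = c • 1 := by
    apply (Matrix.reindexAlgEquiv F F (finSumFinEquiv (m := 2) (n := 1))).injective
    rw [map_smul, map_one]
    exact h
  rw [← Matrix.fromBlocks_one, Matrix.fromBlocks_smul, Matrix.fromBlocks_inj] at h'
  refine ⟨h'.1, ?_⟩
  simpa using congrFun (congrFun h'.2.2.2 0) 0

include p in
theorem exists_torus_two : ∃ g : ProjectiveSpecialLinearGroup (Fin 3) F,
    (q ^ 2 - 1) / d ∣ orderOf g := by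
  have hq : 2 ≤ q := Fintype.one_lt_card
  haveI : NeZero (2 : ℕ) := ⟨by norm_num⟩
  obtain ⟨w, hw⟩ := exists_generator (F := F) p 2 (by norm_num)
  let b : Module.Basis (Fin 2) F (FiniteField.Extension F p 2) := Module.finBasisOfFinrankEq F (FiniteField.Extension F p 2) (FiniteField.finrank_extension ..)
  set δ := Algebra.norm F w with hδ
  have hq2 : 4 ≤ q ^ 2 := by nlinarith
  have hw0 : w ≠ 0 := fun h => by rw [h, orderOf_zero] at hw; omega
  have hδ0 : δ ≠ 0 := fun h => by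
    have := congrArg (algebraMap F (FiniteField.Extension F p 2)) h
    rw [map_zero, hδ, FiniteField.algebraMap_norm_eq_pow] at this
    exact hw0 (eq_zero_of_pow_eq_zero this)
  have hdet : (blk (Algebra.leftMulMatrix b w) δ⁻¹).det = 1 := by
    rw [blk_det, ← Algebra.norm_eq_matrix_det b, ← hδ, mul_inv_cancel₀ hδ0]
  refine ⟨QuotientGroup.mk ⟨_, hdet⟩, ?_⟩
  obtain ⟨c, hc, e⟩ := mk_pow_eq_one (pow_orderOf_eq_one
    (QuotientGroup.mk (⟨_, hdet⟩ : SpecialLinearGroup (Fin 3) F) : ProjectiveSpecialLinearGroup (Fin 3) F))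
  rw [blk_pow] at e
  refine div_gcd_dvd (z := w) hw ?_ hc ?_
  · rw [show q ^ 2 - 1 = (q + 1) * (q - 1) by rw [← Nat.sq_sub_sq, one_pow]]
    exact (Nat.gcd_dvd_right _ _).mul_left _
  · refine Algebra.leftMulMatrix_injective b ?_
    rw [map_pow, AlgHom.commutes, Algebra.algebraMap_eq_smul_one]
    exact (blk_eq_scalar e).1

theorem exists_primitive : ∃ z : F, orderOf z = q - 1 ∧ z ≠ 0 := by
  obtain ⟨g, hg⟩ := IsCyclic.exists_generator (α := Fˣ)
  exact ⟨g, by rw [orderOf_units, orderOf_eq_card_of_forall_mem_zpowers hg, Nat.card_units,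
    Nat.card_eq_fintype_card], g.ne_zero⟩

omit p in
theorem exists_split : ∃ g : ProjectiveSpecialLinearGroup (Fin 3) F, q - 1 ∣ orderOf g := by
  obtain ⟨z, hz, hz0⟩ := exists_primitive (F := F)
  have hdet : (Matrix.diagonal ![z, z⁻¹, 1]).det = 1 := by
    simp [Fin.prod_univ_three, hz0]
  refine ⟨QuotientGroup.mk ⟨_, hdet⟩, ?_⟩
  obtain ⟨c, -, e⟩ := mk_pow_eq_one (pow_orderOf_eq_one
    (QuotientGroup.mk (⟨_, hdet⟩ : SpecialLinearGroup (Fin 3) F) : ProjectiveSpecialLinearGroup (Fin 3) F))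
  rw [Matrix.diagonal_pow] at e
  have e0 := congrFun (congrFun e 0) 0
  have e2 := congrFun (congrFun e 2) 2
  simp at e0 e2
  rw [← hz]
  exact orderOf_dvd_of_pow_eq_one (by rw [e0, ← e2])

theorem exists_mixed : ∃ g : ProjectiveSpecialLinearGroup (Fin 3) F, p * (q - 1) / d ∣ orderOf g := by
  have hp : p.Prime := Fact.out
  have hq : 2 ≤ q := Fintype.one_lt_card
  obtain ⟨z, hz, hz0⟩ := exists_primitive (F := F)
  let A : Matrix (Fin 2) (Fin 2) F := !![z, 1; 0, z]
  have hA : ∀ k : ℕ, A ^ (k + 1) = !![z ^ (k + 1), ((k + 1 : ℕ) : F) * z ^ k; 0, z ^ (k + 1)] := by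
    intro k
    induction k with
    | zero => simp [A]
    | succ k ih =>
      rw [pow_succ, ih]
      simp only [A, Matrix.mul_fin_two]
      ext i j
      fin_cases i <;> fin_cases j <;> simp <;> ring
  have hdet : (blk A (z ^ 2)⁻¹).det = 1 := by
    rw [blk_det, Matrix.det_fin_two_of]
    field_simp
    ring
  refine ⟨QuotientGroup.mk ⟨_, hdet⟩, ?_⟩
  set k := orderOf (QuotientGroup.mk (⟨_, hdet⟩ : SpecialLinearGroup (Fin 3) F) :
    ProjectiveSpecialLinearGroup (Fin 3) F) with hk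
  obtain ⟨c, hc, e⟩ := mk_pow_eq_one (pow_orderOf_eq_one
    (QuotientGroup.mk (⟨_, hdet⟩ : SpecialLinearGroup (Fin 3) F) : ProjectiveSpecialLinearGroup (Fin 3) F))
  rw [blk_pow, ← hk] at e
  have hA' := (blk_eq_scalar e).1
  obtain ⟨j, hj⟩ : ∃ j, k = j + 1 := ⟨k - 1, (Nat.sub_add_cancel (orderOf_pos _)).symm⟩
  rw [hj, hA] at hA'
  have e00 := congrFun (congrFun hA' 0) 0
  have e01 := congrFun (congrFun hA' 0) 1
  simp [hz0] at e00 e01
  have hpk : p ∣ k := (CharP.cast_eq_zero_iff F p k).mp (by rw [hj]; exact_mod_cast e01)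
  have hzk : (q - 1) / d ∣ k := div_gcd_dvd (z := z) hz (Nat.gcd_dvd_right _ _) hc (by
    rw [hj, e00]; rfl)
  rw [Nat.mul_div_assoc _ (Nat.gcd_dvd_right _ _)]
  refine Nat.Coprime.mul_dvd_of_dvd_of_dvd ?_ hpk hzk
  refine hp.coprime_iff_not_dvd.mpr fun h => ?_
  obtain ⟨s, -, hs⟩ := FiniteField.card F p
  have h1 : p ∣ q := hs ▸ dvd_pow_self p s.pos.ne'
  have h2 : p ∣ q - 1 := h.trans (Nat.div_dvd_of_dvd (Nat.gcd_dvd_right _ _))
  have h3 := Nat.dvd_sub h1 h2
  rw [show q - (q - 1) = 1 by omega] at h3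
  exact hp.one_lt.ne' (Nat.dvd_one.mp h3)

theorem exists_four (hp : p = 2) : ∃ g : ProjectiveSpecialLinearGroup (Fin 3) F, orderOf g = 4 := by
  subst hp
  have h2 : (2 : F) = 0 := CharP.cast_eq_zero F 2
  let U : SpecialLinearGroup (Fin 3) F := ⟨!![1, 1, 0; 0, 1, 1; 0, 0, 1], by simp [Matrix.det_fin_three]⟩
  have hU2 : U.1 ^ 2 = !![1, 0, 1; 0, 1, 0; 0, 0, 1] := by
    rw [sq]
    ext i j
    fin_cases i <;> fin_cases j <;> simp [U, Matrix.mul_apply, Fin.sum_univ_three] <;> linear_combination h2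
  refine ⟨QuotientGroup.mk U, orderOf_eq_prime_pow (p := 2) (n := 1) (fun h => ?_) ?_⟩
  · obtain ⟨c, -, e⟩ := mk_pow_eq_one h
    rw [pow_one, hU2] at e
    simpa using congrFun (congrFun e 0) 2
  · have hU4 : U ^ (2 ^ (1 + 1)) = 1 := Subtype.ext (by
      rw [SpecialLinearGroup.coe_pow, show 2 ^ (1 + 1) = 2 * 2 by norm_num, pow_mul, hU2, sq,
        SpecialLinearGroup.coe_one]
      ext i j
      fin_cases i <;> fin_cases j <;> simp [Matrix.mul_apply, Fin.sum_univ_three] <;> linear_combination h2)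
    rw [← QuotientGroup.mk_pow, hU4, QuotientGroup.mk_one]

theorem exists_of_dvd {G : Type*} [Group G] [Finite G] (x : G) {m : ℕ} (h : m ∣ orderOf x) :
    ∃ y : G, orderOf y = m :=
  ⟨x ^ (orderOf x / m), orderOf_pow_orderOf_div (orderOf_pos x).ne' h⟩

theorem spectrum : Set.range (orderOf : ProjectiveSpecialLinearGroup (Fin 3) F → ℕ) =
      {m : ℕ | m ∣ (q ^ 2 + q + 1) / d ∨ m ∣ (q ^ 2 - 1) / d ∨ m ∣ q - 1 ∨
        m ∣ p * (q - 1) / d ∨ (p = 2 ∧ m ∣ 4)} := by
  classical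
  ext m
  constructor
  · rintro ⟨g, rfl⟩
    exact orderOf_dvd_five p g
  · rintro (h | h | h | h | ⟨hp, h⟩)
    · obtain ⟨g, hg⟩ := exists_singer (F := F) p
      exact exists_of_dvd g (h.trans hg)
    · obtain ⟨g, hg⟩ := exists_torus_two (F := F) p
      exact exists_of_dvd g (h.trans hg)
    · obtain ⟨g, hg⟩ := exists_split (F := F)
      exact exists_of_dvd g (h.trans hg)
    · obtain ⟨g, hg⟩ := exists_mixed (F := F) p
      exact exists_of_dvd g (h.trans hg)
    · obtain ⟨g, hg⟩ := exists_four (F := F) p hp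
      exact exists_of_dvd g (hg ▸ h)

end Cfsg.Agent.KnownB.SpecThree
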