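import Mathlib.FieldTheory.Finite.GaloisField
import Mathlib.RingTheory.AdjoinRoot
import Mathlib.LinearAlgebra.Matrix.Charpoly.Coeff
import Mathlib.LinearAlgebra.Matrix.ProjectiveSpecialLinearGroup
import Mathlib.RingTheory.Norm.Basic
import Mathlib.Algebra.Polynomial.SpecificDegree

/-! The element orders of `PSL₃(q)`: the upper bound, from the characteristic polynomial. -/

set_option autoImplicit false

namespace Cfsg.Agent.KnownB.SpecThree

open Polynomial

variable {F : Type*} [Field F] [Fintype F]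

local notation "q" => Fintype.card F
local notation "d" => Nat.gcd 3 (Fintype.card F - 1)

/-- A root of an irreducible monic factor. -/
theorem root_norm {h : F[X]} (hi : Irreducible h) (hm : h.Monic) {s : ℕ}
    (hs : h.natDegree = s) :
    haveI : Fact (Irreducible h) := ⟨hi⟩
    AdjoinRoot.root h ^ ((q ^ s - 1) / (q - 1)) = algebraMap F (AdjoinRoot h) ((-1) ^ s * h.coeff 0) := by
  haveI : Fact (Irreducible h) := ⟨hi⟩
  let pb := AdjoinRoot.powerBasis hm.ne_zero
  haveI : Module.Finite F (AdjoinRoot h) := pb.finite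
  haveI : Finite (AdjoinRoot h) := Module.finite_of_finite F
  have hfr : Module.finrank F (AdjoinRoot h) = s := by
    rw [pb.finrank, AdjoinRoot.powerBasis_dim, hs]
  have e := FiniteField.algebraMap_norm_eq_pow (K := F) (x := AdjoinRoot.root h)
  rw [Module.natCard_eq_pow_finrank (K := F), hfr, Nat.card_eq_fintype_card] at e
  rw [← e]
  congr 1
  have hg := Algebra.PowerBasis.norm_gen_eq_coeff_zero_minpoly pb
  rw [AdjoinRoot.powerBasis_gen, AdjoinRoot.powerBasis_dim, hs, AdjoinRoot.minpoly_root hm.ne_zero,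
    hm.leadingCoeff, inv_one, C_1, mul_one] at hg
  exact hg

theorem dvd_sub_of_root {h : F[X]} (hi : Irreducible h) {N : ℕ} {c : F}
    (hr : haveI : Fact (Irreducible h) := ⟨hi⟩
      AdjoinRoot.root h ^ N = algebraMap F (AdjoinRoot h) c) : h ∣ X ^ N - C c := by
  rw [← AdjoinRoot.mk_eq_zero, map_sub, map_pow, AdjoinRoot.mk_X, AdjoinRoot.mk_C, sub_eq_zero, hr,
    AdjoinRoot.algebraMap_eq]

theorem linear_dvd {a c : F} {N : ℕ} (h : a ^ N = c) : X - C a ∣ X ^ N - C c := by
  rw [← h, C_pow]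
  exact sub_dvd_pow_sub_pow _ _ N

/-- An element of `F` killed by `d`. -/
theorem pow_q_of_pow_d {K : Type*} [Field K] {y : K} (hy : y ^ d = 1) : y ^ q = y := by
  obtain ⟨t, ht⟩ : d ∣ q - 1 := Nat.gcd_dvd_right _ _
  have hq : 1 ≤ q := Fintype.card_pos
  rw [show q = d * t + 1 by omega, pow_succ, pow_mul, hy, one_pow, one_mul]

theorem mem_base {K : Type*} [Field K] [Algebra F K] {y : K} (hy : y ^ d = 1) :
    ∃ c : F, algebraMap F K c = y := by
  classical
  by_contra hne
  push Not at hne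
  have hpow := pow_q_of_pow_d (F := F) hy
  have hcard : (Finset.univ.image (algebraMap F K)).card = q := by
    rw [Finset.card_image_of_injective _ (algebraMap F K).injective, Finset.card_univ]
  have hsub : insert y (Finset.univ.image (algebraMap F K)) ⊆ (X ^ q - X : K[X]).roots.toFinset := by
    intro z hz
    rw [Multiset.mem_toFinset, mem_roots (FiniteField.X_pow_card_sub_X_ne_zero K Fintype.one_lt_card),
      IsRoot.def, eval_sub, eval_pow, eval_X, sub_eq_zero]
    rcases Finset.mem_insert.mp hz with rfl | hz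
    · exact hpow
    · obtain ⟨c, -, rfl⟩ := Finset.mem_image.mp hz
      rw [← map_pow, FiniteField.pow_card]
  have h1 := Finset.card_le_card hsub
  rw [Finset.card_insert_of_notMem (by simpa using hne), hcard] at h1
  have h2 := (Multiset.toFinset_card_le _).trans (card_roots' (X ^ q - X : K[X]))
  rw [FiniteField.X_pow_card_sub_X_natDegree_eq K Fintype.one_lt_card] at h2
  omega

variable (p : ℕ) [Fact p.Prime] [CharP F p]

/-- Every monic cubic with constant term `-1` divides one of five binomials. -/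
theorem cubic_dvd {f : F[X]} (hf : f.Monic) (hdeg : f.natDegree = 3) (h0 : f.coeff 0 = -1) :
    ∃ N, (N = (q ^ 2 + q + 1) / d ∨ N = (q ^ 2 - 1) / d ∨ N = q - 1 ∨ N = p * (q - 1) / d ∨
      (p = 2 ∧ N = 4)) ∧ ∃ c : F, f ∣ X ^ N - C c := by
  have hq : 2 ≤ q := Fintype.one_lt_card
  have hd0 : 0 < d := Nat.gcd_pos_of_pos_left _ (by norm_num)
  have hdq : d ∣ q - 1 := Nat.gcd_dvd_right _ _
  have hd3 : d ∣ 3 := Nat.gcd_dvd_left _ _
  by_cases hr : ∃ a, f.IsRoot a
  swap
  · -- no root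
    have hi : Irreducible f := (irreducible_iff_roots_eq_zero_of_degree_le_three (by omega) (by omega)).mpr
      (Multiset.eq_zero_of_forall_notMem fun a ha => hr ⟨a, (mem_roots hf.ne_zero).mp ha⟩)
    haveI : Fact (Irreducible f) := ⟨hi⟩
    set M := (q ^ 2 + q + 1) / d with hMdef
    have hdM : d ∣ q ^ 2 + q + 1 := by
      have : q ^ 2 + q + 1 = (q - 1) * (q + 2) + 3 := by
        obtain ⟨t, ht⟩ : ∃ t, q = t + 1 := ⟨q - 1, by omega⟩
        rw [ht]; simp; ring
      rw [this]; exact dvd_add (hdq.mul_right _) hd3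
    have hn := root_norm hi hf hdeg
    rw [show (q ^ 3 - 1) / (q - 1) = q ^ 2 + q + 1 from Nat.div_eq_of_eq_mul_left (by omega) (by
      obtain ⟨t, ht⟩ : ∃ t, q = t + 1 := ⟨q - 1, by omega⟩
      rw [ht, Nat.add_sub_cancel, show (t + 1) ^ 3 = ((t + 1) ^ 2 + (t + 1) + 1) * t + 1 by ring]
      simp), h0] at hn
    have hy : (AdjoinRoot.root f ^ M) ^ d = 1 := by
      rw [← pow_mul, hMdef, Nat.div_mul_cancel hdM, hn]
      simp [pow_succ]
    obtain ⟨c, hc⟩ := mem_base (F := F) hy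
    exact ⟨M, Or.inl rfl, c, dvd_sub_of_root hi hc.symm⟩
  obtain ⟨a, ha⟩ := hr
  obtain ⟨h, hfh⟩ := dvd_iff_isRoot.mpr ha
  have hhm : h.Monic := (monic_X_sub_C a).of_mul_monic_left (hfh ▸ hf)
  have hhd : h.natDegree = 2 := by
    have := congrArg natDegree hfh
    rw [natDegree_mul (X_sub_C_ne_zero a) hhm.ne_zero, natDegree_X_sub_C, hdeg] at this
    omega
  have hab : a * h.coeff 0 = 1 := by
    have := congrArg (coeff · 0) hfh
    simp only [mul_coeff_zero, coeff_sub, coeff_X_zero, coeff_C_zero, zero_sub, h0] at this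
    linear_combination this
  have ha0 : a ≠ 0 := left_ne_zero_of_mul_eq_one hab
  have ha1 : a ^ (q - 1) = 1 := FiniteField.pow_card_sub_one_eq_one a ha0
  by_cases hrh : ∃ b, h.IsRoot b
  swap
  · -- an irreducible quadratic factor
    have hi : Irreducible h := (irreducible_iff_roots_eq_zero_of_degree_le_three (by omega) (by omega)).mpr
      (Multiset.eq_zero_of_forall_notMem fun b hb => hrh ⟨b, (mem_roots hhm.ne_zero).mp hb⟩)
    haveI : Fact (Irreducible h) := ⟨hi⟩
    set N := (q ^ 2 - 1) / d with hNdef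
    have hq21 : q ^ 2 - 1 = (q - 1) * (q + 1) := by
      obtain ⟨t, ht⟩ : ∃ t, q = t + 1 := ⟨q - 1, by omega⟩
      rw [ht, show (t + 1) ^ 2 = t * (t + 1 + 1) + 1 by ring]; simp
    have hn := root_norm hi hhm hhd
    rw [hq21, Nat.mul_div_cancel_left _ (show 0 < q - 1 by omega), neg_one_sq, one_mul] at hn
    have hy : (AdjoinRoot.root h ^ N) ^ d = 1 := by
      rw [← pow_mul, hNdef, Nat.div_mul_cancel (hq21 ▸ hdq.mul_right _), hq21, mul_comm, pow_mul, hn,
        ← map_pow, FiniteField.pow_card_sub_one_eq_one _ (right_ne_zero_of_mul_eq_one hab), map_one]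
    obtain ⟨c, hc⟩ := mem_base (F := F) hy
    have hc3 : c ^ 3 = 1 := (algebraMap F (AdjoinRoot h)).injective (by
      obtain ⟨t, ht⟩ := hd3
      rw [map_pow, hc, ht, pow_mul, hy, one_pow, map_one])
    have haN : a ^ N = c := by
      -- `aᴺ c ^ (q + 1) = 1`
      have e : (algebraMap F (AdjoinRoot h)) (a ^ N * c ^ (q + 1)) = 1 := by
        rw [map_mul, map_pow, map_pow, hc, ← pow_mul, mul_comm N, pow_mul (AdjoinRoot.root h), hn,
          ← mul_pow, ← map_mul, hab, map_one, one_pow]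
      have e' : a ^ N * c ^ (q + 1) = 1 := (algebraMap F (AdjoinRoot h)).injective (e.trans (map_one _).symm)
      rw [pow_succ, FiniteField.pow_card] at e'
      linear_combination c * e' - a ^ N * hc3
    refine ⟨N, Or.inr (Or.inl rfl), c, hfh ▸ IsCoprime.mul_dvd ?_ (linear_dvd haN) (dvd_sub_of_root hi hc.symm)⟩
    exact (irreducible_X_sub_C a).coprime_iff_not_dvd.mpr fun hdvd => hrh ⟨a, dvd_iff_isRoot.mp hdvd⟩
  obtain ⟨b, hb⟩ := hrh
  obtain ⟨l, hhl⟩ := dvd_iff_isRoot.mpr hb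
  have hlm : l.Monic := (monic_X_sub_C b).of_mul_monic_left (hhl ▸ hhm)
  have hld : l.natDegree = 1 := by
    have := congrArg natDegree hhl
    rw [natDegree_mul (X_sub_C_ne_zero b) hlm.ne_zero, natDegree_X_sub_C, hhd] at this
    omega
  obtain ⟨e, rfl⟩ : ∃ e, l = X - C e := ⟨-l.coeff 0, by
    conv_lhs => rw [hlm.eq_X_add_C hld]
    rw [map_neg, sub_neg_eq_add]⟩
  have habe : a * b * e = 1 := by
    rw [hhl] at hab
    simp only [mul_coeff_zero, coeff_sub, coeff_X_zero, coeff_C_zero, zero_sub] at hab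
    linear_combination hab
  have hfac : f = (X - C a) * ((X - C b) * (X - C e)) := by rw [← hhl]; exact hfh
  have hb0 : b ≠ 0 := fun h => by simp [h] at habe
  have he0 : e ≠ 0 := fun h => by simp [h] at habe
  by_cases hdist : a ≠ b ∧ a ≠ e ∧ b ≠ e
  · refine ⟨q - 1, Or.inr (Or.inr (Or.inl rfl)), 1, hfac ▸ ?_⟩
    have hco : ∀ {x y : F}, x ≠ y → IsCoprime (X - C x) (X - C y) := fun hxy =>
      isCoprime_X_sub_C_of_isUnit_sub (sub_ne_zero.mpr hxy).isUnit
    refine IsCoprime.mul_dvd ((hco hdist.1).mul_right (hco hdist.2.1)) (linear_dvd ha1)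
      (IsCoprime.mul_dvd (hco hdist.2.2) (linear_dvd ?_) (linear_dvd ?_))
    · exact FiniteField.pow_card_sub_one_eq_one b hb0
    · exact FiniteField.pow_card_sub_one_eq_one e he0
  -- a repeated root
  obtain ⟨x, y, hxy, hfac'⟩ : ∃ x y, x * x * y = 1 ∧ f = (X - C x) ^ 2 * (X - C y) := by
    by_cases h1 : a = b
    · exact ⟨a, e, by subst h1; exact habe, by rw [hfac, ← h1]; ring⟩
    by_cases h2 : a = e
    · exact ⟨a, b, by subst h2; linear_combination habe, by rw [hfac, ← h2]; ring⟩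
    have h3 : b = e := not_not.mp fun h => hdist ⟨h1, h2, h⟩
    exact ⟨b, a, by subst h3; linear_combination habe, by rw [hfac, ← h3]; ring⟩
  have hx0 : x ≠ 0 := fun h => by simp [h] at hxy
  have hy0 : y ≠ 0 := fun h => by simp [h] at hxy
  obtain ⟨N₁, hN₁⟩ := hdq
  have hN₁' : p * (q - 1) / d = p * N₁ := Nat.div_eq_of_eq_mul_right hd0 (by rw [mul_left_comm d p N₁, ← hN₁])
  haveI : CharP F[X] p := inferInstance
  have hfrob : ∀ c : F, (X ^ N₁ - C c : F[X]) ^ p = X ^ (p * N₁) - C (c ^ p) := fun c => by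
    rw [sub_pow_char, ← pow_mul, mul_comm, C_pow]
  by_cases hxy' : x = y
  · subst hxy'
    have h3 : f = (X - C x) ^ 3 := by rw [hfac']; ring
    rcases (Fact.out : p.Prime).two_le.eq_or_lt with hp | hp
    · refine ⟨4, Or.inr (Or.inr (Or.inr (Or.inr ⟨hp.symm, rfl⟩))), x ^ 4, ?_⟩
      subst hp
      have : (X - C x : F[X]) ^ (2 ^ 2) = X ^ (2 ^ 2) - C (x ^ (2 ^ 2)) := by rw [sub_pow_char_pow, C_pow]
      exact h3 ▸ this ▸ pow_dvd_pow _ (by norm_num)
    · refine ⟨p * (q - 1) / d, Or.inr (Or.inr (Or.inr (Or.inl rfl))), (x ^ N₁) ^ p, ?_⟩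
      rw [hN₁', ← hfrob, h3]
      exact (pow_dvd_pow _ (show 3 ≤ p by omega)).trans (pow_dvd_pow_of_dvd (linear_dvd rfl) p)
  · have hyx : y ^ N₁ = x ^ N₁ := by
      obtain ⟨t, ht⟩ := hd3
      have h3 : (x ^ N₁) ^ 3 = 1 := by
        rw [← pow_mul, ht, show N₁ * (d * t) = d * N₁ * t by ring, ← hN₁, pow_mul,
          FiniteField.pow_card_sub_one_eq_one x hx0, one_pow]
      have h4 : x ^ N₁ * x ^ N₁ * y ^ N₁ = 1 := by rw [← mul_pow, ← mul_pow, hxy, one_pow]
      linear_combination x ^ N₁ * h4 - y ^ N₁ * h3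
    refine ⟨p * (q - 1) / d, Or.inr (Or.inr (Or.inr (Or.inl rfl))), (x ^ N₁) ^ p, ?_⟩
    rw [hN₁', ← hfrob, hfac']
    have hp1 : 2 ≤ p := (Fact.out : p.Prime).two_le
    exact IsCoprime.mul_dvd (isCoprime_X_sub_C_of_isUnit_sub (sub_ne_zero.mpr hxy').isUnit).pow_left
      ((pow_dvd_pow _ hp1).trans (pow_dvd_pow_of_dvd (linear_dvd rfl) p))
      ((linear_dvd hyx).trans (dvd_pow_self _ (by omega)))

open Matrix in
theorem orderOf_dvd_five (g : ProjectiveSpecialLinearGroup (Fin 3) F) :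
    orderOf g ∣ (q ^ 2 + q + 1) / d ∨ orderOf g ∣ (q ^ 2 - 1) / d ∨ orderOf g ∣ q - 1 ∨
      orderOf g ∣ p * (q - 1) / d ∨ (p = 2 ∧ orderOf g ∣ 4) := by
  obtain ⟨x, rfl⟩ := QuotientGroup.mk_surjective g
  have h0 : x.1.charpoly.coeff 0 = -1 := by
    have := Matrix.det_eq_sign_charpoly_coeff x.1
    rw [x.2, Fintype.card_fin] at this
    linear_combination this
  obtain ⟨N, hN, c, hc⟩ := cubic_dvd p x.1.charpoly_monic (by
    rw [Matrix.charpoly_natDegree_eq_dim, Fintype.card_fin]) h0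
  have hpow : x.1 ^ N = c • (1 : Matrix (Fin 3) (Fin 3) F) := by
    obtain ⟨r, hr⟩ := hc
    have e := congrArg (aeval x.1) hr
    rw [map_sub, map_pow, aeval_X, aeval_C, map_mul, Matrix.aeval_self_charpoly, zero_mul, sub_eq_zero,
      Algebra.algebraMap_eq_smul_one] at e
    exact e
  have hdvd : orderOf (QuotientGroup.mk x : ProjectiveSpecialLinearGroup (Fin 3) F) ∣ N := by
    refine orderOf_dvd_of_pow_eq_one ?_
    rw [← QuotientGroup.mk_pow, QuotientGroup.eq_one_iff, Matrix.SpecialLinearGroup.mem_center_iff]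
    refine ⟨c, ?_, ?_⟩
    · have := (x ^ N).2
      rw [SpecialLinearGroup.coe_pow, hpow, Matrix.det_smul, Matrix.det_one, mul_one] at this
      exact this
    · rw [SpecialLinearGroup.coe_pow, hpow, Matrix.scalar_apply, Matrix.smul_one_eq_diagonal]
  rcases hN with rfl | rfl | rfl | rfl | ⟨h2, rfl⟩
  · exact Or.inl hdvd
  · exact Or.inr (Or.inl hdvd)
  · exact Or.inr (Or.inr (Or.inl hdvd))
  · exact Or.inr (Or.inr (Or.inr (Or.inl hdvd)))
  · exact Or.inr (Or.inr (Or.inr (Or.inr ⟨h2, hdvd⟩)))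

end Cfsg.Agent.KnownB.SpecThree
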